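import Groth.Agent.PullbackMod.LimFree
import Groth.Agent.FlatLocus.FibreCritMod
import Groth.Agent.IdealStalkLib.Cartier

/-!
# Local freeness of a coherent module is detected on the infinitesimal neighbourhoods
-/

set_option autoImplicit false
set_option backward.isDefEq.respectTransparency false
set_option linter.style.haveILetI false

universe u

open CategoryTheory AlgebraicGeometry TensorProduct

namespace Groth.Agent.FormalFree

/-- A finite module whose reductions modulo all powers of an ideal in the radical are free of rank `r` is free of rank `r`. -/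
theorem free_of_forall_pow {R : Type u} [CommRing R] [IsNoetherianRing R] (J : Ideal R) (hJ : J ≤ Ideal.jacobson ⊥)
    (M : Type u) [AddCommGroup M] [Module R M] [Module.Finite R M] (r : ℕ)
    (S : ℕ → Type u) [∀ n, CommRing (S n)] [∀ n, Algebra R (S n)]
    (hs : ∀ n, Function.Surjective (algebraMap R (S n))) (hk : ∀ n, RingHom.ker (algebraMap R (S n)) = J ^ (n + 1))
    (h : ∀ n, Nonempty (S n ⊗[R] M ≃ₗ[S n] (Fin r → S n))) :
    Nonempty (M ≃ₗ[R] (Fin r → R)) := by
  have hmk : ∀ n, Function.Surjective (TensorProduct.mk R (S n) M 1) := fun n =>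
    TensorProduct.mk_surjective R M (S n) (hs n)
  have hker : ∀ n (m : M), (1 : S n) ⊗ₜ[R] m = 0 ↔ m ∈ J ^ (n + 1) • (⊤ : Submodule R M) := fun n m => by
    let e : (R ⧸ J ^ (n + 1)) ≃ₐ[R] S n := (Ideal.quotientEquivAlgOfEq R (hk n).symm).trans
      (Ideal.quotientKerAlgEquivOfSurjective (f := Algebra.ofId R (S n)) (hs n))
    let E := (TensorProduct.congr e.toLinearEquiv (LinearEquiv.refl R M)).symm.trans
      (TensorProduct.quotTensorEquivQuotSMul M (J ^ (n + 1)))
    have : E ((1 : S n) ⊗ₜ[R] m) = Submodule.Quotient.mk m := by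
      simp only [E, LinearEquiv.trans_apply, TensorProduct.congr_symm_tmul, LinearEquiv.refl_symm, LinearEquiv.refl_apply]
      rw [show e.toLinearEquiv.symm 1 = Ideal.Quotient.mk (J ^ (n + 1)) 1 from (map_one e.symm).trans (map_one _).symm,
        TensorProduct.quotTensorEquivQuotSMul_mk_tmul, one_smul]
    rw [← Submodule.Quotient.mk_eq_zero, ← this, map_eq_zero_iff _ E.injective]
  obtain ⟨e0⟩ := h 0
  choose m hm using fun i => hmk 0 (e0.symm (Pi.single i 1))
  let g : (Fin r → R) →ₗ[R] M := Fintype.linearCombination R m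
  have hg1 : ∀ i, g (Pi.single i 1) = m i := fun i => by simp [g, Fintype.linearCombination_apply_single]
  have hg : Function.Surjective g := by
    rw [← LinearMap.range_eq_top, eq_top_iff]
    refine Submodule.le_of_le_smul_of_le_jacobson_bot Module.Finite.fg_top hJ fun y _ => ?_
    obtain ⟨v, hv⟩ : ∃ v : Fin r → R, (1 : S 0) ⊗ₜ[R] g v = (1 : S 0) ⊗ₜ[R] y := by
      obtain ⟨c, hc⟩ : ∃ c : Fin r → R, ∀ i, algebraMap R (S 0) (c i) = e0 (1 ⊗ₜ[R] y) i :=
        ⟨fun i => (hs 0 _).choose, fun i => (hs 0 _).choose_spec⟩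
      refine ⟨c, e0.injective ?_⟩
      rw [show g c = ∑ i, c i • m i by simp [g, Fintype.linearCombination_apply], TensorProduct.tmul_sum, map_sum]
      have hterm : ∀ i, e0 ((1 : S 0) ⊗ₜ[R] (c i • m i)) = algebraMap R (S 0) (c i) • Pi.single i (1 : S 0) := fun i => by
        rw [TensorProduct.tmul_smul, ← algebraMap_smul (S 0) (c i), map_smul,
          show (1 : S 0) ⊗ₜ[R] m i = e0.symm (Pi.single i 1) from hm i, LinearEquiv.apply_symm_apply]
      rw [Finset.sum_congr rfl fun i _ => hterm i]
      ext j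
      simp [Finset.sum_apply, Pi.single_apply, hc]
    rw [← sub_add_cancel y (g v), add_comm]
    refine Submodule.add_mem_sup ⟨v, rfl⟩ ?_
    have := (hker 0 (y - g v)).1 (by rw [TensorProduct.tmul_sub, hv, sub_self])
    rwa [pow_one] at this
  refine ⟨(LinearEquiv.ofBijective g ⟨?_, hg⟩).symm⟩
  rw [injective_iff_map_eq_zero]
  intro v hv
  have hall : ∀ n, v ∈ J ^ (n + 1) • (⊤ : Submodule R (Fin r → R)) := by
    intro n
    obtain ⟨en⟩ := h n
    let gn : (Fin r → S n) →ₗ[S n] (Fin r → S n) :=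
      en.toLinearMap ∘ₗ Fintype.linearCombination (S n) (fun i => (1 : S n) ⊗ₜ[R] m i)
    have hsur : Function.Surjective gn := by
      intro z
      obtain ⟨y, hy⟩ := hmk n (en.symm z)
      obtain ⟨w, rfl⟩ := hg y
      refine ⟨fun i => algebraMap R (S n) (w i), ?_⟩
      show en (Fintype.linearCombination (S n) _ _) = z
      rw [← en.apply_symm_apply z, ← hy]
      congr 1
      simp [g, Fintype.linearCombination_apply, TensorProduct.tmul_sum, TensorProduct.tmul_smul, algebraMap_smul]
    have hinj := OrzechProperty.injective_of_surjective_endomorphism gn hsur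
    have h0 : (fun i => algebraMap R (S n) (v i)) = 0 := hinj (by
      rw [map_zero]
      show en (Fintype.linearCombination (S n) _ _) = 0
      rw [← map_zero en]
      congr 1
      calc Fintype.linearCombination (S n) (fun i => (1 : S n) ⊗ₜ[R] m i) (fun i => algebraMap R (S n) (v i))
          = (1 : S n) ⊗ₜ[R] g v := by
            simp [g, Fintype.linearCombination_apply, TensorProduct.tmul_sum, TensorProduct.tmul_smul, algebraMap_smul]
        _ = 0 := by rw [hv, TensorProduct.tmul_zero])
    rw [show v = ∑ i, v i • Pi.single i (1 : R) from pi_eq_sum_univ' v]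
    refine Submodule.sum_mem _ fun i _ => Submodule.smul_mem_smul ?_ trivial
    rw [← hk n, RingHom.mem_ker]
    exact congr_fun h0 i
  have hbot := Ideal.iInf_pow_smul_eq_bot_of_le_jacobson (M := Fin r → R) J hJ
  refine (Submodule.mem_bot R).1 (hbot ▸ Submodule.mem_iInf _ |>.2 fun n => ?_)
  exact Submodule.smul_mono_left (Ideal.pow_le_pow_right (Nat.le_succ n)) (hall n)

variable {X : Scheme.{u}}

theorem stalkIdeal_pow (K : X.IdealSheafData) (n : ℕ) (x : X) :
    IntMult.stalkIdeal (K ^ n) x = IntMult.stalkIdeal K x ^ n := by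
  obtain ⟨_, ⟨U : X.Opens, hU, rfl⟩, hxU, -⟩ := X.isBasis_affineOpens.exists_subset_of_mem_open (Set.mem_univ x) isOpen_univ
  rw [IdealStalkLib.stalkIdeal_eq _ ⟨U, hU⟩ x hxU, IdealStalkLib.stalkIdeal_eq _ ⟨U, hU⟩ x hxU,
    Scheme.IdealSheafData.ideal_pow, Pi.pow_apply, Ideal.map_pow]

/-- The stalk map to a closed subscheme, from the stalk at a named point. -/
noncomputable def ψ (K : X.IdealSheafData) (z : K.subscheme) {x : X} (hz : K.subschemeι z = x) :
    X.presheaf.stalk x ⟶ K.subscheme.presheaf.stalk z :=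
  X.presheaf.stalkSpecializes (specializes_of_eq hz) ≫ K.subschemeι.stalkMap z

theorem ψ_spec (F : X.Modules) [Coh.IsQCoh F] (K : X.IdealSheafData) (z : K.subscheme) {x : X} (hz : K.subschemeι z = x) {r : ℕ} :
    Function.Surjective (ψ K z hz) ∧ RingHom.ker (ψ K z hz).hom = IntMult.stalkIdeal K x ∧
      (PullbackMod.FreeAt r ((Scheme.Modules.pullback K.subschemeι).obj F) z →
        letI := (ψ K z hz).hom.toAlgebra
        Nonempty (K.subscheme.presheaf.stalk z ⊗[X.presheaf.stalk x] F.presheaf.stalk x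
          ≃ₗ[K.subscheme.presheaf.stalk z] (Fin r → K.subscheme.presheaf.stalk z))) := by
  subst hz
  have hψ : ψ K z rfl = K.subschemeι.stalkMap z := by simp [ψ]
  rw [hψ]
  refine ⟨K.subschemeι.stalkMap_surjective z, IdealStalkLib.ker_stalkMap_subschemeι K z, fun h => ?_⟩
  obtain ⟨e⟩ := h
  obtain ⟨φ, -⟩ := PullbackMod.exists_pullback_stalk_equiv K.subschemeι F z
  exact ⟨φ.trans e⟩

variable [IsLocallyNoetherian X] {F : X.Modules} (hF : Coh.IsCoh F) (K : X.IdealSheafData) {r : ℕ}

include hF in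
theorem freeAt_of_forall_pow (h : ∀ n : ℕ, FlatMod.IsFinLocFreeOfRank r
      ((Scheme.Modules.pullback (K ^ (n + 1)).subschemeι).obj F)) {x : X} (hx : x ∈ K.support) :
    PullbackMod.FreeAt r F x := by
  haveI := hF.1
  haveI := FlatLocus.finite_stalk F (QCohLib.isFP_of_isCoh F hF) x
  have hz : ∀ n, ∃ z : (K ^ (n + 1)).subscheme, (K ^ (n + 1)).subschemeι z = x := fun n => by
    have : x ∈ Set.range (K ^ (n + 1)).subschemeι.base := by
      rw [Scheme.IdealSheafData.range_subschemeι, Scheme.IdealSheafData.support_pow_succ]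
      exact hx
    exact this
  choose z hz using hz
  letI : ∀ n, Algebra (X.presheaf.stalk x) ((K ^ (n + 1)).subscheme.presheaf.stalk (z n)) :=
    fun n => (ψ (K ^ (n + 1)) (z n) (hz n)).hom.toAlgebra
  refine free_of_forall_pow (IntMult.stalkIdeal K x) ((IdealStalkLib.stalkIdeal_le_maximal K hx).trans
    (IsLocalRing.maximalIdeal_le_jacobson _)) (F.presheaf.stalk x) r
    (fun n => (K ^ (n + 1)).subscheme.presheaf.stalk (z n)) (fun n => (ψ_spec F (r := r) _ (z n) (hz n)).1)
    (fun n => ?_) fun n => (ψ_spec F _ (z n) (hz n)).2.2 ?_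
  · exact (ψ_spec F (r := r) _ (z n) (hz n)).2.1.trans (stalkIdeal_pow K (n + 1) x)
  · haveI := PullbackMod.isQCoh_pullback (K ^ (n + 1)).subschemeι F
    obtain ⟨U, hxU, ⟨i⟩⟩ := h n (z n)
    exact PullbackMod.freeAt_of_restrict_iso _ i hxU

end Groth.Agent.FormalFree
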